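import Cfsg.Agent.H898.Rg.FBcnt
import Cfsg.Agent.H449.Reg.ResB
import Cfsg.Agent.H922.OmStab

/-!
# S3691, the residual case F-B- (helper898)

`resB_false` : there is no factorization `Fac T X Y` of type `ResB hI X m v` (`T = Ω_{2m+1}(q)`, `q` odd, `m ≥ 3`, `|Out T| ∣ 2 f`).
-/

set_option autoImplicit false
set_option linter.unusedSectionVars false

namespace Cfsg.Agent.H898.Rg

open Module QuadraticMap Cfsg.Agent.LieClassical.OrthCore Cfsg.Agent.LieClassical.OrthTrans
  Cfsg.Agent.ClassicalGeometry.OrthSemi Cfsg.Agent.H449.Reg Cfsg.Agent.H883.Sub Cfsg.Agent.H454.Reg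
open Cfsg.Agent.H890.SpParity (fix mem_fix even_E)

universe u v

section center

variable {F V : Type*} [Field F] [AddCommGroup V] [Module F V] {Q : QuadraticForm F V}

/-- the centre of `Ω_{2m+1}(q)` is trivial -/
theorem center_bot [FiniteDimensional F V] (hG : Good Q) (h2 : (2 : F) ≠ 0) (hodd : Odd (finrank F V)) :
    Subgroup.center ↥(E Q) = ⊥ := by
  rw [Subgroup.eq_bot_iff_forall]
  intro z hz
  have h1 : conjE Q (lg z) = 1 := by
    apply MulEquiv.ext
    intro g
    apply Subtype.ext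
    apply LinearEquiv.ext
    intro x
    have h3 := conjLin_apply' (lg z) g.1 (z.1.symm x)
    have h4 : (lg z).1 (z.1.symm x) = x := z.1.apply_symm_apply x
    rw [h4] at h3
    change conjLin (lg z) g.1 x = g.1 x
    rw [h3]
    change z.1 (g.1 (z.1.symm x)) = g.1 x
    have h5 : z * g = g * z := (Subgroup.mem_center_iff.1 hz g).symm
    have h6 : z.1 (g.1 (z.1.symm x)) = g.1 (z.1 (z.1.symm x)) := by
      change (z.1 * g.1) _ = (g.1 * z.1) _
      rw [show z.1 * g.1 = g.1 * z.1 from congrArg Subtype.val h5]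
    rw [h6, LinearEquiv.apply_symm_apply]
  obtain ⟨a, ha, h3⟩ := exists_scalar_of_conjE hG _ h1
  have h3' : ∀ x, z.1 x = a • x := h3
  obtain ⟨x, y, hxy⟩ := hG.exists_hyp
  have h4 : Q (z.1 (x + y)) = Q (x + y) := E_le_O z.2 _
  have h5 : Q (x + y) = 1 := by rw [Q_add, hxy.left, hxy.right, hxy.pair]; simp
  rw [h3', QuadraticMap.map_smul, h5, smul_eq_mul, mul_one] at h4
  have h6 : (a - 1) * (a + 1) = 0 := by linear_combination h4
  rcases mul_eq_zero.1 h6 with h7 | h7
  · apply Subtype.ext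
    apply LinearEquiv.ext
    intro x
    rw [h3', sub_eq_zero.1 h7, one_smul]
    rfl
  · exfalso
    have h8 : fix z.1 = ⊥ := by
      rw [Submodule.eq_bot_iff]
      intro x hx
      rw [mem_fix, h3', eq_neg_of_add_eq_zero_left h7, neg_smul, one_smul] at hx
      have h9 : (2 : F) • x = 0 := by
        rw [two_smul]
        nth_rewrite 1 [← hx]
        exact neg_add_cancel x
      exact (smul_eq_zero.1 h9).resolve_left h2
    have h9 := even_E hG.nondeg z.2
    rw [h8, finrank_bot, zero_add] at h9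
    exact (Nat.not_even_iff_odd.2 hodd) h9

end center

section grp

variable {F V : Type*} [Field F] [AddCommGroup V] [Module F V] {Q : QuadraticForm F V}
variable {G : Type u} [Group G] {T : Subgroup G} [T.Normal] {e : T ≃* (↥(E Q) ⧸ Subgroup.center ↥(E Q))}

/-- the projection `E Q → T` -/
def tq (e : T ≃* (↥(E Q) ⧸ Subgroup.center ↥(E Q))) : ↥(E Q) →* T :=
  e.symm.toMonoidHom.comp (QuotientGroup.mk' _)

theorem e_tq (x : ↥(E Q)) : e (tq e x) = QuotientGroup.mk x := e.apply_symm_apply _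

theorem tq_surj : Function.Surjective (tq e) := by
  intro t
  obtain ⟨x, hx⟩ := QuotientGroup.mk_surjective (e t)
  exact ⟨x, e.injective (by rw [e_tq, hx])⟩

theorem tq_inj (hc : Subgroup.center ↥(E Q) = ⊥) : Function.Injective (tq e) := by
  rw [injective_iff_map_eq_one]
  intro x hx
  have h1 := e_tq (e := e) x
  rw [hx, map_one] at h1
  have h2 : x ∈ Subgroup.center ↥(E Q) := (QuotientGroup.eq_one_iff x).1 h1.symm
  rw [hc] at h2
  exact h2

/-- the preimage in `GL(V)` of `X ∩ T` -/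
def preE (e : T ≃* (↥(E Q) ⧸ Subgroup.center ↥(E Q))) (X : Subgroup G) : Subgroup (V ≃ₗ[F] V) :=
  ((X.subgroupOf T).comap (tq e)).map (E Q).subtype

theorem mem_preE {X : Subgroup G} {k : V ≃ₗ[F] V} : k ∈ preE e X ↔ ∃ hk : k ∈ E Q, ((tq e ⟨k, hk⟩ : T) : G) ∈ X := by
  constructor
  · rintro ⟨x, hx, rfl⟩
    exact ⟨x.2, hx⟩
  · rintro ⟨hk, h⟩
    exact ⟨⟨k, hk⟩, h, rfl⟩

theorem card_preE (hc : Subgroup.center ↥(E Q) = ⊥) (X : Subgroup G) : Nat.card (preE e X) = Nat.card (X.subgroupOf T) := by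
  rw [preE, Subgroup.card_map_of_injective (E Q).subtype_injective]
  refine Nat.card_congr (Equiv.ofBijective (fun x : (X.subgroupOf T).comap (tq e) => (⟨tq e x, x.2⟩ : X.subgroupOf T)) ⟨?_, ?_⟩)
  · intro a b hab
    exact Subtype.ext (tq_inj hc (congrArg Subtype.val hab))
  · rintro ⟨t, ht⟩
    obtain ⟨x, rfl⟩ := tq_surj (e := e) t
    exact ⟨⟨x, ht⟩, rfl⟩

/-- the semisimilitudes inducing elements of `Y` -/
def gamY (e : T ≃* (↥(E Q) ⧸ Subgroup.center ↥(E Q))) (Y : Subgroup G) : Subgroup (Gam Q) :=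
  (Y.map (autP e)).comap (Psi Q)

theorem tq_conjE {M : Gam Q} {g : G} (h : Psi Q M = autP e g) (x : ↥(E Q)) :
    ((tq e (conjE Q M x) : T) : G) = g * (tq e x : T) * g⁻¹ := by
  have h1 : tq e (conjE Q M x) = MulAut.conjNormal g (tq e x) := by
    apply e.injective
    rw [e_tq, ← autP_apply, e_tq, ← h]
    rfl
  rw [h1, MulAut.conjNormal_apply]

theorem conj_mem_preE {Y : Subgroup G} {M : Gam Q} (hM : M ∈ gamY e Y) {k : V ≃ₗ[F] V} (hk : k ∈ preE e Y) :
    conjLin M k ∈ preE e Y := by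
  obtain ⟨y, hy, hMy⟩ := hM
  obtain ⟨hkE, hkY⟩ := mem_preE.1 hk
  refine mem_preE.2 ⟨conjLin_mem_E M hkE, ?_⟩
  have h1 := tq_conjE (e := e) hMy.symm ⟨k, hkE⟩
  have h2 : conjE Q M ⟨k, hkE⟩ = ⟨conjLin M k, conjLin_mem_E M hkE⟩ := rfl
  rw [h2] at h1
  rw [h1]
  exact Y.mul_mem (Y.mul_mem hy hkY) (Y.inv_mem hy)

/-- **the configuration of the linear part** -/
theorem cfg_of [Finite G] [Finite F] [FiniteDimensional F V] (hG : Good Q) (hI : Ind e) {X Y : Subgroup G} (hf : Fac T X Y)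
    (h2 : (2 : F) ≠ 0) {m : ℕ} (hm : 3 ≤ m) (hd : finrank F V = 2 * m + 1) {v : V} (hv : Q v ≠ 0)
    (hX : ∀ x ∈ X, act hI x (F ∙ v) = F ∙ v) (hEY : EY Q (perp Q (F ∙ v)) ≤ preE e X) :
    Cfg Q m v (preE e Y) (gamY e Y) := by
  have hv0 : v ≠ 0 := by
    rintro rfl
    exact hv (map_zero Q)
  have hc := center_bot hG h2 (by rw [hd]; exact ⟨m, rfl⟩)
  refine ⟨hG, h2, hd, hm, hv, ?_, fun M hM k hk => conj_mem_preE hM hk, ?_, ?_⟩
  · intro k hk
    exact (mem_preE.1 hk).1
  · intro S hS hinv w hw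
    by_contra hcon
    push Not at hcon
    have hw0 : w ≠ 0 := by
      rintro rfl
      rw [map_zero] at hw
      exact hv hw.symm
    refine no_common hG hI hf hv0 hX hS (fun y hy => ?_) hw0 hw hcon
    exact hinv _ ⟨y, hy, ((hI y).choose_spec).symm⟩
  · intro k hk w hw hkw
    have hw0 : w ≠ 0 := by
      rintro rfl
      rw [map_zero] at hw
      exact hv hw.symm
    obtain ⟨hkE, hkY⟩ := mem_preE.1 hk
    obtain ⟨g, hg, hgw⟩ := hG.trans_norm hw0 hv0 hw
    set x : ↥(E Q) := ⟨k, hkE⟩ with hx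
    set g' : ↥(E Q) := ⟨g, hg⟩ with hg'
    have hfixv : (g' * x * g'⁻¹).1 v = v := by
      change g (k (g.symm v)) = v
      rw [← hgw, LinearEquiv.symm_apply_apply, hkw]
    have hU : NondegOn Q (perp Q (F ∙ v)) := by
      refine NondegOn.perp hG.nondeg ?_
      intro y hy hy'
      obtain ⟨a, rfl⟩ := Submodule.mem_span_singleton.1 hy
      have h3 := hy' v (Submodule.mem_span_singleton_self v)
      rw [polar_smul_left, polar_self', smul_eq_mul] at h3
      have h4 : a = 0 := by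
        rcases mul_eq_zero.1 h3 with h5 | h5
        · exact h5
        · rcases mul_eq_zero.1 h5 with h6 | h6
          · exact absurd h6 h2
          · exact absurd h6 hv
      rw [h4, zero_smul]
    have hdU : 5 ≤ finrank F (perp Q (F ∙ v)) := by
      have h3 := finrank_perp hG.nondeg (F ∙ v)
      rw [finrank_span_singleton hv0, hd] at h3
      omega
    have h3 : (g' * x * g'⁻¹).1 ∈ EY Q (perp Q (F ∙ v)) := by
      refine Cfsg.Agent.H922.Om.mem_EY_of_fix h2 hG hU (good_res hU hdU) (g' * x * g'⁻¹).2 fun y hy => ?_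
      rw [perp_perp hG.nondeg] at hy
      obtain ⟨a, rfl⟩ := Submodule.mem_span_singleton.1 hy
      rw [map_smul, hfixv]
    obtain ⟨h4, h5⟩ := mem_preE.1 (hEY h3)
    have h6 : ((tq e (g' * x * g'⁻¹) : T) : G) ∈ X := h5
    rw [map_mul, map_mul, map_inv] at h6
    have h7 := hf.symm.not_conj hkY ((tq e g' : T) : G) h6
    have h8 : x = 1 := tq_inj hc (Subtype.ext (by rw [map_one]; exact h7))
    exact congrArg Subtype.val h8

/-- **F-B-, abstract form** -/
theorem false_of [Finite G] [Finite F] [FiniteDimensional F V] (hG : Good Q) (hI : Ind e) {X Y : Subgroup G} (hf : Fac T X Y)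
    {p f : ℕ} (hp : p.Prime) (hp2 : p ≠ 2) (hf0 : 0 < f) (hF : Nat.card F = p ^ f) (hout : Nat.card (Cfsg.Out T) ∣ 2 * f)
    {m : ℕ} (hm : 3 ≤ m) (hd : finrank F V = 2 * m + 1) {v : V} (hv : Q v ≠ 0)
    (hX : ∀ x ∈ X, act hI x (F ∙ v) = F ∙ v) (hEY : EY Q (perp Q (F ∙ v)) ≤ preE e X) : False := by
  classical
  have := Module.finite_of_finite F (M := V)
  have : Finite (V ≃ₗ[F] V) := Finite.of_injective (fun g => (g : V → V)) DFunLike.coe_injective
  have h2 : (2 : F) ≠ 0 := by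
    intro h0
    have h1 : 2 ∣ Nat.card F := by
      have hF' := Fintype.ofFinite F
      have h3 : ringChar F = 2 := by
        rcases (Nat.dvd_prime Nat.prime_two).1 ((ringChar.spec F 2).1 (by exact_mod_cast h0)) with h4 | h4
        · exact absurd h4 CharP.ringChar_ne_one
        · exact h4
      have : CharP F 2 := by rw [← h3]; exact ringChar.charP F
      obtain ⟨n, -, hn⟩ := FiniteField.card F 2
      rw [Nat.card_eq_fintype_card, hn]
      exact dvd_pow_self 2 n.ne_zero
    rw [hF] at h1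
    exact hp2 ((Nat.prime_dvd_prime_iff_eq Nat.prime_two hp).1 (Nat.prime_two.dvd_of_dvd_pow h1)).symm
  have hC := cfg_of hG hI hf h2 hm hd hv hX hEY
  have hv0 : v ≠ 0 := by
    rintro rfl
    exact hv (map_zero Q)
  have hc := center_bot hG h2 (by rw [hd]; exact ⟨m, rfl⟩)
  -- the orbit of `v`
  have horb : (MulAction.orbit ↥(E Q) v).ncard = Nat.card {x : V // Q x = Q v} := by
    rw [← Nat.card_coe_set_eq]
    refine Nat.card_congr (Equiv.subtypeEquivRight fun x => ?_)
    constructor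
    · rintro ⟨g, rfl⟩
      exact E_le_O g.2 v
    · intro hx
      have hx0 : x ≠ 0 := by
        rintro rfl
        rw [map_zero] at hx
        exact hv hx.symm
      obtain ⟨g, hg, hgx⟩ := hG.trans_norm hv0 hx0 hx.symm
      exact ⟨⟨g, hg⟩, hgx⟩
  set N := Nat.card {x : V // Q x = Q v} with hN
  have hidx : Nat.card (MulAction.stabilizer ↥(E Q) v) * N = Nat.card ↥(E Q) := by
    rw [← horb, ← MulAction.index_stabilizer]
    exact Subgroup.card_mul_index _
  have hET : Nat.card ↥(E Q) = Nat.card T :=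
    Nat.card_congr (Equiv.ofBijective (tq e) ⟨tq_inj hc, tq_surj⟩)
  -- `|X ∩ T|` divides `2 |E_v|`
  set XE : Subgroup ↥(E Q) := (X.subgroupOf T).comap (tq e) with hXE
  have hXEc : Nat.card XE = Nat.card (X.subgroupOf T) := by
    rw [← card_preE (e := e) hc X, preE, Subgroup.card_map_of_injective (E Q).subtype_injective]
  have hXv : ∀ g ∈ XE, g.1 v = v ∨ g.1 v = -v := by
    intro g hg
    have h1 : act hI ((tq e g : T) : G) (F ∙ v) = (F ∙ v).map (g.1 : V →ₗ[F] V) := act_T hG hI (e_tq g) _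
    rw [hX ((tq e g : T) : G) hg] at h1
    have h3 : g.1 v ∈ F ∙ v := by
      rw [h1]
      exact ⟨v, Submodule.mem_span_singleton_self v, rfl⟩
    obtain ⟨a, ha⟩ := Submodule.mem_span_singleton.1 h3
    have h4 : Q (g.1 v) = Q v := E_le_O g.2 v
    rw [← ha, QuadraticMap.map_smul, smul_eq_mul] at h4
    have h5 : a * a = 1 := mul_right_cancel₀ hv (by rw [h4, one_mul])
    rcases mul_self_eq_one_iff.1 h5 with h6 | h6
    · left; rw [← ha, h6, one_smul]
    · right; rw [← ha, h6, neg_smul, one_smul]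
  have hdvd : Nat.card XE ∣ 2 * Nat.card (MulAction.stabilizer ↥(E Q) v) := by
    have h1 := Subgroup.card_mul_index (MulAction.stabilizer XE v)
    rw [MulAction.index_stabilizer] at h1
    have h3 : (MulAction.orbit XE v).ncard ∣ 2 := by
      have h4 : MulAction.orbit XE v ⊆ {v, -v} := by
        rintro _ ⟨g, rfl⟩
        rcases hXv g.1 g.2 with h5 | h5
        · left; exact h5
        · right; exact h5
      have h5 := Set.ncard_le_ncard h4
      have h6 : ({v, -v} : Set V).ncard ≤ 2 := (Set.ncard_insert_le _ _).trans (by rw [Set.ncard_singleton])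
      have h7 : 0 < (MulAction.orbit XE v).ncard := by
        rw [Set.ncard_pos]
        exact ⟨v, MulAction.mem_orbit_self v⟩
      have h8 : (MulAction.orbit XE v).ncard = 1 ∨ (MulAction.orbit XE v).ncard = 2 := by omega
      rcases h8 with h8 | h8 <;> rw [h8]
      exact one_dvd 2
    have h4 : Nat.card (MulAction.stabilizer XE v) ∣ Nat.card (MulAction.stabilizer ↥(E Q) v) := by
      have h5 : Nat.card (MulAction.stabilizer XE v) =
          Nat.card ((MulAction.stabilizer XE v).map XE.subtype) :=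
        (Subgroup.card_map_of_injective XE.subtype_injective).symm
      rw [h5]
      refine Subgroup.card_dvd_of_le ?_
      rintro _ ⟨g, hg, rfl⟩
      exact hg
    rw [← h1, mul_comm]
    exact mul_dvd_mul h3 h4
  obtain ⟨c, -, hcd, hcard⟩ := hf.card0
  have hYc := card_preE (e := e) hc Y
  obtain ⟨j, hj⟩ := hdvd
  -- `N ∣ 2 |K| c`
  have hkey : N ∣ 2 * Nat.card (preE e Y) * c := by
    refine ⟨j, ?_⟩
    have h1 : 0 < Nat.card XE := Nat.card_pos
    apply Nat.eq_of_mul_eq_mul_left h1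
    have h3 : Nat.card XE * (2 * Nat.card (preE e Y) * c) = 2 * Nat.card T := by
      rw [hYc, ← hcard, hXEc]
      ring
    rw [h3, ← hET, ← hidx]
    calc 2 * (Nat.card (MulAction.stabilizer ↥(E Q) v) * N) = (2 * Nat.card (MulAction.stabilizer ↥(E Q) v)) * N := by ring
      _ = Nat.card XE * j * N := by rw [hj]
      _ = Nat.card XE * (N * j) := by ring
  have hc2 : c ∣ 2 * f := hcd.trans hout
  -- `K ≠ 1`
  have hK : preE e Y ≠ ⊥ := by
    intro hbot
    rw [hbot, Subgroup.card_bot, mul_one] at hkey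
    have h1 := Nat.le_of_dvd (by omega) (hkey.trans (mul_dvd_mul_left 2 hc2))
    have h3 := le_card_norm (F := F) hG (Q v)
    rw [← hN, hd, hF] at h3
    have h4 : p ^ f ≤ (p ^ f) ^ (2 * m + 1 - 2) := Nat.le_self_pow (by omega) _
    have h5 : (p ^ f) ^ 5 ≤ (p ^ f) ^ (2 * m + 1 - 2) := Nat.pow_le_pow_right (pow_pos hp.pos f) (by omega)
    have h6 : f < p ^ f := Nat.lt_pow_self hp.one_lt
    have h7 : 3 ≤ p := by
      have := hp.two_le
      omega
    have h8 : 3 ≤ p ^ f := h7.trans (Nat.le_self_pow hf0.ne' p)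
    have h9 : 4 * p ^ f < (p ^ f) ^ 5 := by
      have : (p ^ f) ^ 5 = (p ^ f) ^ 4 * p ^ f := by ring
      rw [this]
      have h10 : 3 ^ 4 ≤ (p ^ f) ^ 4 := Nat.pow_le_pow_left h8 4
      nlinarith
    omega
  obtain ⟨hme, D, hDm, hts, hDc⟩ := hC.main hK
  have hNc := card_norm hG.nondeg h2 hd hDm hts hDc
  rw [← hN, hF] at hNc
  rw [hNc] at hkey
  exact num_kill (hp.odd_of_ne_two hp2) hf0 hme hC.odd_card hc2 hkey

end grp

section res

open Cfsg Cfsg.Agent.LieClassical.OrthFinite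
open Cfsg.Agent.AutOrth.Main (oe pe oe_apply pe_mk)

variable {ι : Type} [Fintype ι] [DecidableEq ι] {F : Type v} [Field F] {Q : QuadraticForm F (ι → F)}
variable {G : Type u} [Group G] {T : Subgroup G} [T.Normal] {hG : Good Q} {eT : T ≃* POmega F (⇑Q)}

/-- the two descriptions of the preimage of `X ∩ T` -/
theorem mem_preE_of_preG {X : Subgroup G} {k : (ι → F) ≃ₗ[F] (ι → F)} (hk : (glEquiv ι F).symm k ∈ preG eT X) :
    k ∈ preE (eP hG eT) X := by
  obtain ⟨x, hx, hxX⟩ := exists_of_mem_preG hk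
  have h1 : ((oe hG x : ↥(E Q)) : (ι → F) ≃ₗ[F] (ι → F)) = k := by
    have h2 : glEquiv ι F ((glEquiv ι F).symm k) = k := (glEquiv ι F).apply_symm_apply k
    rw [← hx] at h2
    rw [← h2]
    rfl
  refine mem_preE.2 ⟨by rw [← h1]; exact (oe hG x).2, ?_⟩
  have h2 : (⟨k, by rw [← h1]; exact (oe hG x).2⟩ : ↥(E Q)) = oe hG x := Subtype.ext h1.symm
  rw [h2]
  have h3 : tq (eP hG eT) (oe hG x) = eT.symm (QuotientGroup.mk x) := by
    apply (eP hG eT).injective
    rw [e_tq]
    change _ = pe hG (eT (eT.symm _))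
    rw [eT.apply_symm_apply, pe_mk]
  rw [h3]
  exact hxX

/-- **F-B-** : there is no factorization of type `ResB` -/
theorem resB_false [Finite G] [Finite F] {hI : Ind (eP hG eT)} {X Y : Subgroup G} (hf : Fac T X Y) {p f : ℕ} (hp : p.Prime)
    (hp2 : p ≠ 2) (hf0 : 0 < f) (hF : Nat.card F = p ^ f) (hout : Nat.card (Cfsg.Out T) ∣ 2 * f) {m : ℕ} (hm : 3 ≤ m)
    {v : ι → F} (h : ResB hI X m v) : False := by
  refine false_of hG hI hf hp hp2 hf0 hF hout hm (by rw [Module.finrank_fintype_fun_eq_card, h.card]) h.ne h.fix ?_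
  rw [EY, Subgroup.closure_le]
  rintro _ ⟨u, w, hu, hw, huY, hwY, rfl⟩
  exact mem_preE_of_preG (h.sieg u w hu hw (mem_perp'.1 huY v (Submodule.mem_span_singleton_self v))
    (mem_perp'.1 hwY v (Submodule.mem_span_singleton_self v)))

end res

end Cfsg.Agent.H898.Rg
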